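import Cfsg.Agent.Lib.Blocks.ChainSum.Count
import Cfsg.Agent.Lib.BrauerPairs.Principal
import Cfsg.Agent.Lib.Modular.PSolvableHeights
import Cfsg.Agent.Lib.BlockArith.SmallRank
import Cfsg.Agent.Lib.NilBlock.Rows
import Cfsg.Agent.S4691
import Cfsg.Agent.S4646
import Mathlib.GroupTheory.FixedPointFree

/-!
# Blocks with `k(B) - l(B) = 1`

* `conj_of_count`: then the nontrivial elements of a defect group form part of one class;
* `comm_of_centralizers`: a Sylow subgroup with one class of nontrivial elements and `p`-nilpotent centralisers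
  is commutative;
* `comm_of_pSolvable`: in a `p`-solvable group a defect group of such a block is commutative.
-/

set_option autoImplicit false
set_option maxHeartbeats 1000000

noncomputable section

namespace CfsgLib.Blocks.OneClass

open Cfsg CfsgLib.Blocks CfsgLib.BlockArith CfsgLib.BrauerPairs CfsgLib.Blocks.ChainSum
open CfsgLib.NilBlock (exists_pow_of_mem)
open scoped Classical

universe u

variable {G : Type u} [Group G] [Fintype G] {p : ℕ} [hp : Fact p.Prime] {M : Ideal AlgInt} [M.IsMaximal]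

/-- Every element of a defect group has a block of its centraliser inducing `B`. -/
theorem rankSum_pos (hM : IsPModular p M) {B : Set (IrrCharacter G)} (hB : IsPBlock M B) {D : Subgroup G}
    (hD : IsDefectGroup p M B D) {x : G} (hx : x ∈ D) :
    0 < rankSum p M (Subgroup.centralizer ({x} : Set G)) B := by
  obtain ⟨e, hmax⟩ := exists_maximal_at hM hB hD
  have hle : Subgroup.zpowers x ≤ D := Subgroup.zpowers_le.mpr hx
  obtain ⟨f, hf⟩ := (existsUnique_subpair hM hle hmax.1.1).exists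
  have hpair : IsBrauerPairOf p M B (Subgroup.zpowers x) f :=
    (brauerPairOf_iff_of_subpair hM (a := ⟨_, f⟩) (b := ⟨D, e⟩) hf).mp hmax.1
  have hind := (brauerPairOf_iff_induced hM hpair.1.1 hpair.1.2 hB).mp hpair
  have hC : Subgroup.centralizer ({x} : Set G) = Cen (Subgroup.zpowers x) := by
    rw [Subgroup.zpowers_eq_closure, Cen, Subgroup.centralizer_closure]
  rw [hC, rankSum, finsum_mem_eq_finite_toFinset_sum _ (Set.toFinite _)]
  refine lt_of_lt_of_le (blockRank_pos (p := p) hpair.1.2) ?_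
  exact Finset.single_le_sum (f := fun β => blockRank p β) (fun β _ => Nat.zero_le _)
    ((Set.Finite.mem_toFinset _).mpr hind)

/-- **One class.** -/
theorem conj_of_count (hM : IsPModular p M) {B : Set (IrrCharacter G)} (hB : IsPBlock M B) {D : Subgroup G}
    (hD : IsDefectGroup p M B D) (hk : Nat.card B ≤ blockRank p B + 1) :
    ∀ x ∈ D, x ≠ 1 → (rankSum p M (Subgroup.centralizer ({x} : Set G)) B = 1 ∧
      ∀ y ∈ D, y ≠ 1 → IsConj x y) := by
  have hDp := IsDefectGroup.isPGroup hD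
  have hord : ∀ x ∈ D, ∃ k : ℕ, orderOf x = p ^ k := fun x hx => exists_pow_of_mem hDp hx
  set W : G → ℕ := fun g => Nat.card (Subgroup.centralizer ({g} : Set G)) *
    rankSum p M (Subgroup.centralizer ({g} : Set G)) B with hW
  set S := Finset.univ.filter (fun x : G => x ≠ 1 ∧ ∃ k : ℕ, orderOf x = p ^ k) with hSd
  have h := block_count hM hB
  have htot : ∑ g ∈ S, W g ≤ Nat.card G := by
    have h1 : ((Nat.card G : ℤ) * ((Nat.card B : ℤ) - (blockRank p B : ℤ))) ≤ (Nat.card G : ℤ) :=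
      mul_le_of_le_one_right (Int.natCast_nonneg _) (by omega)
    rw [h] at h1
    rw [← Int.ofNat_le, Nat.cast_sum]
    exact h1
  have hsum := sum_elements hM hB
  -- each class of an element of `D` accounts for the order of the group
  have hclass : ∀ x ∈ D, Nat.card G * rankSum p M (Subgroup.centralizer ({x} : Set G)) B ≤
      ∑ g ∈ Finset.univ.filter (IsConj x), W g := by
    intro x hx
    have h1 := sum_conj_apply x fun _ : G => (1 : ℂ)
    simp only [Finset.sum_const, nsmul_one, Finset.card_univ, ← Nat.card_eq_fintype_card] at h1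
    have h2 : Nat.card G = Nat.card (Subgroup.centralizer ({x} : Set G)) *
        (Finset.univ.filter (IsConj x)).card := by exact_mod_cast h1
    rw [h2, show Nat.card (Subgroup.centralizer ({x} : Set G)) * (Finset.univ.filter (IsConj x)).card *
      rankSum p M (Subgroup.centralizer ({x} : Set G)) B =
      (Finset.univ.filter (IsConj x)).card • W x by rw [smul_eq_mul, hW]; ring]
    rw [← Finset.sum_const]
    refine le_of_eq (Finset.sum_congr rfl fun g hg => ?_)
    exact (weight_conj hM hB (hord x hx) (Finset.mem_filter.mp hg).2).symm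
  have hsub : ∀ x ∈ D, x ≠ 1 → Finset.univ.filter (IsConj x) ⊆ S := fun x hx hx1 g hg => by
    have hc := (Finset.mem_filter.mp hg).2
    obtain ⟨w, hw⟩ := isConj_iff.mp hc
    obtain ⟨k, hk⟩ := hord x hx
    refine Finset.mem_filter.mpr ⟨Finset.mem_univ _, fun h1 => hx1 ?_, k, ?_⟩
    · subst h1; exact conj_eq_one_iff.mp hw
    · rw [← hk, ← hw]; exact (MulAut.conj w).orderOf_eq x
  intro x hx hx1
  have hpos := rankSum_pos hM hB hD hx
  have hG : 0 < Nat.card G := Nat.card_pos
  refine ⟨?_, fun y hy hy1 => ?_⟩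
  · have h2 := (hclass x hx).trans ((Finset.sum_le_sum_of_subset (hsub x hx hx1)).trans htot)
    have : rankSum p M (Subgroup.centralizer ({x} : Set G)) B ≤ 1 :=
      Nat.le_of_mul_le_mul_left (by rwa [mul_one]) hG
    omega
  · by_contra hne
    have hdisj : Disjoint (Finset.univ.filter (IsConj x)) (Finset.univ.filter (IsConj y)) :=
      Finset.disjoint_left.mpr fun g h1 h2 =>
        hne ((Finset.mem_filter.mp h1).2.trans (Finset.mem_filter.mp h2).2.symm)
    have h2 := (Finset.sum_union (f := W) hdisj).ge.trans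
      ((Finset.sum_le_sum_of_subset (Finset.union_subset (hsub x hx hx1) (hsub y hy hy1))).trans htot)
    have h3 := hclass x hx
    have h4 := hclass y hy
    have h5 := rankSum_pos hM hB hD hy
    have h6 : Nat.card G * 1 ≤ Nat.card G * rankSum p M (Subgroup.centralizer ({x} : Set G)) B :=
      Nat.mul_le_mul_left _ hpos
    have h7 : Nat.card G * 1 ≤ Nat.card G * rankSum p M (Subgroup.centralizer ({y} : Set G)) B :=
      Nat.mul_le_mul_left _ h5
    omega

/-- A power of `p` exponent: all nontrivial elements conjugate. -/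
theorem pow_eq_one_of_conj {D : Subgroup G} (hDp : IsPGroup p D)
    (hconj : ∀ x ∈ D, x ≠ 1 → ∀ y ∈ D, y ≠ 1 → IsConj x y) : ∀ a ∈ D, a ^ p = 1 := by
  intro a ha
  by_contra h
  have ha1 : a ≠ 1 := fun h1 => h (by rw [h1, one_pow])
  have hc := hconj a ha ha1 _ (D.pow_mem ha p) h
  obtain ⟨w, hw⟩ := isConj_iff.mp hc
  obtain ⟨k, hk⟩ := exists_pow_of_mem hDp ha
  have ho : orderOf (a ^ p) = orderOf a := by rw [← hw]; exact (MulAut.conj w).orderOf_eq a
  rw [hk] at ho
  cases k with
  | zero => exact ha1 (orderOf_eq_one_iff.mp (by rw [hk, pow_zero]))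
  | succ k =>
    rw [orderOf_pow' a hp.out.ne_zero, hk, Nat.gcd_eq_right (dvd_pow_self p (by omega)), pow_succ,
      Nat.mul_div_cancel _ hp.out.pos] at ho
    have := hp.out.two_le
    have h2 : 0 < p ^ k := pow_pos hp.out.pos k
    nlinarith

omit [M.IsMaximal] in
/-- A `p'`-element fixing a point centralises the Sylow centraliser of that point. -/
theorem comm_of_complement {C : Subgroup G} (hC : HasNormalPComplement p C) {R : Subgroup G}
    (hRC : R ≤ C) (hR : IsPGroup p R) {t : G} (htC : t ∈ C) (ht : ¬ p ∣ orderOf t)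
    (hnorm : ∀ r ∈ R, t * r * t⁻¹ ∈ R) : ∀ r ∈ R, t * r = r * t := by
  obtain ⟨K, hK, hco, hidx⟩ := CfsgLib.Transfer.hasNormalPComplement_iff.mp hC
  have htK : (⟨t, htC⟩ : C) ∈ K := mem_of_index_pow hp.out hidx (by rwa [Subgroup.orderOf_mk])
  intro r hr
  obtain ⟨k, hk⟩ := exists_pow_of_mem hR (R.mul_mem (hnorm r hr) (R.inv_mem hr))
  have hmem : (⟨t * r * t⁻¹ * r⁻¹, C.mul_mem (C.mul_mem (C.mul_mem htC (hRC hr)) (C.inv_mem htC))
      (C.inv_mem (hRC hr))⟩ : C) ∈ K := by
    have h2 := K.mul_mem htK (hK.conj_mem _ (K.inv_mem htK) ⟨r, hRC hr⟩)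
    convert h2 using 1
    exact Subtype.ext (by simp [mul_assoc])
  have ho : orderOf (t * r * t⁻¹ * r⁻¹) = 1 := by
    refine Nat.eq_one_of_dvd_coprimes (a := p ^ k) (b := Nat.card K) (Nat.Coprime.pow_left _ hco.symm)
      (hk ▸ dvd_rfl) ?_
    have h3 := Subgroup.orderOf_dvd_natCard (s := K) hmem
    rwa [Subgroup.orderOf_mk] at h3
  exact mul_inv_eq_iff_eq_mul.mp (mul_inv_eq_one.mp (orderOf_eq_one_iff.mp ho))

omit [M.IsMaximal] in
/-- **One class and `p`-nilpotent centralisers: the Sylow subgroup is commutative.** -/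
theorem comm_of_centralizers (P : Sylow p G)
    (hconj : ∀ x ∈ (P : Subgroup G), x ≠ 1 → ∀ y ∈ (P : Subgroup G), y ≠ 1 → IsConj x y)
    (hnil : ∀ x ∈ (P : Subgroup G), x ≠ 1 → HasNormalPComplement p (Subgroup.centralizer ({x} : Set G))) :
    ∀ a ∈ (P : Subgroup G), ∀ b ∈ (P : Subgroup G), a * b = b * a := by
  have hexp := pow_eq_one_of_conj P.isPGroup' hconj
  by_cases hbot : (P : Subgroup G) = ⊥
  · intro a ha b hb
    rw [hbot, Subgroup.mem_bot] at ha hb
    rw [ha, hb]
  by_cases hp2 : p = 2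
  · intro a ha b hb
    have h1 : ∀ c ∈ (P : Subgroup G), c⁻¹ = c := fun c hc =>
      inv_eq_of_mul_eq_one_right (by rw [← sq, ← hp2]; exact hexp c hc)
    calc a * b = (a * b)⁻¹ := (h1 _ ((P : Subgroup G).mul_mem ha hb)).symm
      _ = b * a := by rw [mul_inv_rev, h1 a ha, h1 b hb]
  -- a central element and an element of the normaliser inverting it
  have : Nontrivial (P : Subgroup G) := (Subgroup.nontrivial_iff_ne_bot _).mpr hbot
  have : Nontrivial (Subgroup.center (P : Subgroup G)) := P.isPGroup'.center_nontrivial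
  obtain ⟨⟨⟨z, hzP⟩, hzc⟩, hz1'⟩ := exists_ne (1 : Subgroup.center (P : Subgroup G))
  have hz1 : z ≠ 1 := fun h => hz1' (Subtype.ext (Subtype.ext h))
  have hzC : z ∈ Subgroup.centralizer ((P : Subgroup G) : Set G) := Subgroup.mem_centralizer_iff.mpr fun y hy =>
    congrArg Subtype.val (Subgroup.mem_center_iff.mp hzc ⟨y, hy⟩)
  obtain ⟨w, hw⟩ := isConj_iff.mp (hconj z hzP hz1 z⁻¹ ((P : Subgroup G).inv_mem hzP) (inv_ne_one.mpr hz1))
  obtain ⟨n, hnN, hnz⟩ := Sylow.conj_eq_normalizer_conj_of_mem_centralizer P z w⁻¹ hzC (by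
    rw [inv_inv, hw]; exact Subgroup.inv_mem _ hzC)
  rw [inv_inv, hw] at hnz
  -- a `2`-element inverting `z`
  obtain ⟨a, m, hm, hom⟩ := Nat.exists_eq_two_pow_mul_odd (isOfFinOrder_of_finite n⁻¹).orderOf_pos.ne'
  set s : ℕ → G := fun i => (n⁻¹) ^ (m * 2 ^ i) with hs
  have hiter : ∀ j : ℕ, (n⁻¹) ^ j * z * ((n⁻¹) ^ j)⁻¹ = if Odd j then z⁻¹ else z := by
    intro j
    induction j with
    | zero => simp
    | succ j ih =>
      rw [pow_succ', show n⁻¹ * (n⁻¹) ^ j * z * (n⁻¹ * (n⁻¹) ^ j)⁻¹ = n⁻¹ * ((n⁻¹) ^ j * z * ((n⁻¹) ^ j)⁻¹) * n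
        by group, ih]
      by_cases hj : Odd j
      · rw [if_pos hj, if_neg (by simpa [Nat.odd_add_one] using hj)]
        rw [show n⁻¹ * z⁻¹ * n = (n⁻¹ * z * n)⁻¹ by group, ← hnz, inv_inv]
      · rw [if_neg hj, if_pos (by simpa [Nat.odd_add_one] using hj), ← hnz]
  have hts : ∀ i, s i ∈ Subgroup.normalizer ((P : Subgroup G) : Set G) := fun i =>
    Subgroup.pow_mem _ (Subgroup.inv_mem _ hnN) _
  have hnorm : ∀ i, ∀ r ∈ (P : Subgroup G), s i * r * (s i)⁻¹ ∈ (P : Subgroup G) := fun i r hr =>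
    (Subgroup.mem_set_normalizer_iff.mp (hts i) r).mp hr
  have hsp : ∀ i, ¬ p ∣ orderOf (s i) := fun i hdvd => by
    have h1 : orderOf (s i) ∣ 2 ^ a := orderOf_dvd_of_pow_eq_one (by
      rw [hs, ← pow_mul, show m * 2 ^ i * 2 ^ a = orderOf n⁻¹ * 2 ^ i by rw [hom]; ring, pow_mul,
        pow_orderOf_eq_one, one_pow])
    exact hp2 ((Nat.prime_dvd_prime_iff_eq hp.out Nat.prime_two).mp (hp.out.dvd_of_dvd_pow (hdvd.trans h1)))
  -- elements fixing a point centralise the group
  have hfix : ∀ i, ∀ x ∈ (P : Subgroup G), x ≠ 1 → s i * x = x * s i →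
      ∀ r ∈ (P : Subgroup G), s i * r = r * s i := by
    intro i x hx hx1 hcomm
    have h1 : ∀ y ∈ (P : Subgroup G), y ≠ 1 → s i * y = y * s i →
        ∀ r ∈ (P : Subgroup G), r * y = y * r → s i * r = r * s i := by
      intro y hy hy1 hsy r hr hry
      refine comm_of_complement (hnil y hy hy1) (R := (P : Subgroup G) ⊓ Subgroup.centralizer ({y} : Set G))
        inf_le_right (P.isPGroup'.to_le inf_le_left) (Subgroup.mem_centralizer_singleton_iff.mpr hsy) (hsp i)
        (fun r' hr' => ⟨hnorm i r' hr'.1, Subgroup.mem_centralizer_singleton_iff.mpr ?_⟩) r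
        ⟨hr, Subgroup.mem_centralizer_singleton_iff.mpr hry⟩
      have h2 : r' * y = y * r' := Subgroup.mem_centralizer_singleton_iff.mp hr'.2
      have h3 : s i * y * (s i)⁻¹ = y := by rw [hsy, mul_inv_cancel_right]
      calc s i * r' * (s i)⁻¹ * y = s i * r' * (s i)⁻¹ * (s i * y * (s i)⁻¹) := by rw [h3]
        _ = s i * (r' * y) * (s i)⁻¹ := by group
        _ = s i * (y * r') * (s i)⁻¹ := by rw [h2]
        _ = (s i * y * (s i)⁻¹) * (s i * r' * (s i)⁻¹) := by group
        _ = _ := by rw [h3]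
    have hz' : ∀ r ∈ (P : Subgroup G), r * z = z * r := fun r hr => Subgroup.mem_centralizer_iff.mp hzC r hr
    exact fun r hr => h1 z hzP hz1 (h1 x hx hx1 hcomm z hzP (hz' x hx).symm) r hr (hz' r hr)
  -- the last nontrivial power
  have hlast : ∀ r ∈ (P : Subgroup G), s a * r = r * s a := fun r _ => by
    have : s a = 1 := by rw [hs]; beta_reduce; rw [mul_comm, ← hom, pow_orderOf_eq_one]
    rw [this, one_mul, mul_one]
  have h0 : ¬ ∀ r ∈ (P : Subgroup G), s 0 * r = r * s 0 := fun h => by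
    have h1 := hiter (m * 2 ^ 0)
    rw [if_pos (by simpa using hm)] at h1
    have h2 : z⁻¹ = z := by rw [← h1, show (n⁻¹) ^ (m * 2 ^ 0) = s 0 from rfl, h z hzP, mul_inv_cancel_right]
    have h3 : z ^ 2 = 1 := by rw [sq]; nth_rw 1 [← h2]; exact inv_mul_cancel z
    have h4 : p ∣ 2 := (orderOf_eq_prime (hexp z hzP) hz1) ▸ orderOf_dvd_of_pow_eq_one h3
    exact hp2 ((Nat.prime_dvd_prime_iff_eq hp.out Nat.prime_two).mp h4)
  obtain ⟨i, hi, hi'⟩ : ∃ i, (¬ ∀ r ∈ (P : Subgroup G), s i * r = r * s i) ∧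
      ∀ r ∈ (P : Subgroup G), s (i + 1) * r = r * s (i + 1) := by
    by_contra! hc
    exact (Nat.rec (motive := fun i => ¬ ∀ r ∈ (P : Subgroup G), s i * r = r * s i) h0
      (fun i hi h => by
        push Not at hi
        obtain ⟨r, hr, hne⟩ := hc i hi
        exact hne (h r hr)) a) hlast
  have hsucc : s (i + 1) = s i * s i := by rw [hs]; beta_reduce; rw [← pow_add, pow_succ]; ring_nf
  let φ : (P : Subgroup G) →* (P : Subgroup G) :=
    { toFun := fun r => ⟨s i * r * (s i)⁻¹, hnorm i r r.2⟩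
      map_one' := Subtype.ext (by simp)
      map_mul' := fun r r' => Subtype.ext (by simp [mul_assoc]) }
  have hfpf : MonoidHom.FixedPointFree ⇑φ := fun r hr => by
    by_contra hr1
    refine hi (hfix i r r.2 (fun h => hr1 (Subtype.ext h)) ?_)
    exact mul_inv_eq_iff_eq_mul.mp (congrArg Subtype.val hr)
  have hinvol : Function.Involutive ⇑φ := fun r => Subtype.ext (by
    show s i * (s i * r * (s i)⁻¹) * (s i)⁻¹ = r
    have h := hi' r r.2
    rw [hsucc] at h
    calc s i * (s i * r * (s i)⁻¹) * (s i)⁻¹ = s i * s i * r * (s i * s i)⁻¹ := by group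
      _ = r := by rw [h, mul_inv_cancel_right])
  intro x hx y hy
  exact congrArg Subtype.val (hfpf.commute_all_of_involutive hinvol ⟨x, hx⟩ ⟨y, hy⟩).eq


omit [M.IsMaximal] hp in
theorem indFun_regular (T : Subgroup G) [Fintype T] (f : T → ℂ) (g : G) :
    indFun T (pRegularPart p f) g = pRegularPart p (indFun T f) g := by
  rw [BlockArith.pRegularPart_apply, CfsgLib.Char.indFun_apply, CfsgLib.Char.indFun_apply]
  have hkey : ∀ x : G, extendByZero T (pRegularPart p f) (x⁻¹ * g * x) =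
      if p ∣ orderOf g then 0 else extendByZero T f (x⁻¹ * g * x) := fun x => by
    have ho : orderOf (x⁻¹ * g * x) = orderOf g := by
      have := (MulAut.conj x⁻¹).orderOf_eq g
      simpa using this
    unfold extendByZero
    by_cases hT : x⁻¹ * g * x ∈ T
    · rw [show x⁻¹ * g * x = ((⟨_, hT⟩ : T) : G) from rfl, Subtype.val_injective.extend_apply,
        Subtype.val_injective.extend_apply, BlockArith.pRegularPart_apply, Subgroup.orderOf_mk, ho]
    · have hne : ¬ ∃ t : T, (t : G) = x⁻¹ * g * x := fun ⟨t, ht⟩ => hT (ht ▸ t.2)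
      rw [Function.extend_apply' _ _ _ hne, Function.extend_apply' _ _ _ hne, Pi.zero_apply, ite_self]
  simp only [hkey]
  split_ifs with h <;> simp

variable (p) in
/-- **A defect group of a block with `k - l ≤ 1` of a `p`-solvable group is commutative.** -/
theorem comm_of_pSolvable (hM : IsPModular p M) (k : ℕ) : ∀ (G : Type u) [Group G] [Fintype G],
    Nat.card G = k → IsPSolvable p G → ∀ B : Set (IrrCharacter G), IsPBlock M B → ∀ D : Subgroup G,
      IsDefectGroup p M B D → Nat.card B ≤ blockRank p B + 1 → ∀ a ∈ D, ∀ b ∈ D, a * b = b * a := by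
  induction k using Nat.strong_induction_on with
  | _ k ih =>
  intro G _ _ hk hsolv B hB D hD hcnt
  obtain ⟨χ, hχ⟩ := IsPBlock.nonempty hB
  set N := pPrimeCore p G with hNdef
  have hN : ¬ p ∣ Nat.card N := CfsgLib.Cores.not_dvd_card_pPrimeCore p
  let : Fintype N := Fintype.ofFinite _
  obtain ⟨θ, hθirr, hθ⟩ := CfsgLib.Char.exists_constituent
    (CfsgLib.Char.isCharacter_res N (CfsgLib.Char.isCharacter_of_isIrr χ.2))
    fun h => CfsgLib.Char.irr_one_ne_zero χ.2 (by simpa using congrFun h 1)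
  let θ' : IrrCharacter N := ⟨θ, hθirr⟩
  by_cases hinv : CfsgLib.CharNormal.inertia N θ = ⊤
  · have hinv' : ∀ g : G, CfsgLib.CharNormal.conjFun N g θ = θ := fun g =>
      (CfsgLib.CharNormal.mem_inertia N).mp (hinv ▸ Subgroup.mem_top g)
    obtain ⟨Q, hQ⟩ := CfsgLib.Modular.PSolvableHeights.exists_isOverSetup_core hsolv hinv'
    let : Fintype ↥(pPrimePCore p G) := Fintype.ofFinite _
    have := CfsgLib.Cores.pPrimePCore_normal (G := G) (p := p)
    set B₀ := {η : IrrCharacter G | classInner (fun k : N => (η : G → ℂ) k) θ ≠ 0}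
    have hB₀ : IsPBlock M B₀ := CfsgLib.Modular.IsOverSetup.isPBlock_over (θ := θ') hM hQ
    have hBB : B = B₀ := isPBlock_eq_of_mem hB hB₀ hχ hθ
    subst hBB
    obtain ⟨P, rfl⟩ := (CfsgLib.Modular.IsOverSetup.isDefectGroup_over (θ := θ') hM hQ).2 D hD
    intro a ha b hb
    by_cases hb1 : b = 1
    · rw [hb1, one_mul, mul_one]
    have hc := conj_of_count hM hB₀ hD hcnt
    -- a central element of the Sylow subgroup
    have : Nontrivial (P : Subgroup G) := nontrivial_of_ne ⟨b, hb⟩ 1 fun h => hb1 (congrArg Subtype.val h)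
    have : Nontrivial (Subgroup.center (P : Subgroup G)) := P.isPGroup'.center_nontrivial
    obtain ⟨⟨⟨z, hzP⟩, hzc⟩, hz1'⟩ := exists_ne (1 : Subgroup.center (P : Subgroup G))
    have hz1 : z ≠ 1 := fun h => hz1' (Subtype.ext (Subtype.ext h))
    have hzC : ∀ y ∈ (P : Subgroup G), y * z = z * y := fun y hy =>
      congrArg Subtype.val (Subgroup.mem_center_iff.mp hzc ⟨y, hy⟩)
    let mk := QuotientGroup.mk' N
    set O := pCore p (G ⧸ N)
    obtain ⟨Pb, hPb⟩ : ∃ Pb : Sylow p (G ⧸ N), (Pb : Subgroup (G ⧸ N)) = (P : Subgroup G).map mk :=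
      ⟨P.mapSurjective (QuotientGroup.mk'_surjective N), rfl⟩
    have hOP : O ≤ (P : Subgroup G).map mk := by
      rw [← hPb]; exact CfsgLib.Cores.pCore_le_sylow Pb
    have hcen : Subgroup.centralizer (O : Set (G ⧸ N)) ≤ O :=
      CfsgLib.Transfer.centralizer_pCore_le_of_isPSolvable
        (CfsgLib.Transfer.isPSolvable_quotient hsolv _) (CfsgLib.Cores.pPrimeCore_quotient_self p)
    have hzO : mk z ∈ Subgroup.centralizer (O : Set (G ⧸ N)) := Subgroup.mem_centralizer_iff.mpr fun y hy => by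
      obtain ⟨y', hy', rfl⟩ := hOP hy
      rw [← map_mul, ← map_mul, hzC y' hy']
    have hOn : O.Normal := inferInstance
    have hall : ∀ x ∈ (P : Subgroup G), mk x ∈ O ∧ mk x ∈ Subgroup.centralizer (O : Set (G ⧸ N)) := by
      intro x hx
      by_cases hx1 : x = 1
      · subst hx1; rw [map_one]; exact ⟨one_mem _, one_mem _⟩
      obtain ⟨w, hw⟩ := isConj_iff.mp ((hc z hzP hz1).2 x hx hx1)
      rw [← hw, map_mul, map_mul, map_inv]
      exact ⟨hOn.conj_mem _ (hcen hzO) _, (inferInstance : (Subgroup.centralizer (O : Set (G ⧸ N))).Normal).conj_mem _ hzO _⟩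
    have h1 : mk (a * b) = mk (b * a) := by
      rw [map_mul, map_mul]
      exact Subgroup.mem_centralizer_iff.mp (hall b hb).2 _ (hall a ha).1
    have h2 : (a * b) * (b * a)⁻¹ ∈ N := by
      rw [← QuotientGroup.eq_one_iff]
      show mk _ = 1
      rw [map_mul, map_inv, h1, mul_inv_cancel]
    have h3 : (a * b) * (b * a)⁻¹ ∈ (P : Subgroup G) :=
      (P : Subgroup G).mul_mem ((P : Subgroup G).mul_mem ha hb)
        ((P : Subgroup G).inv_mem ((P : Subgroup G).mul_mem hb ha))
    obtain ⟨j, hj⟩ := exists_pow_of_mem P.isPGroup' h3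
    refine mul_inv_eq_one.mp (orderOf_eq_one_iff.mp ?_)
    refine Nat.eq_one_of_dvd_coprimes (a := p ^ j) (b := Nat.card N)
      (Nat.Coprime.pow_left _ (hp.out.coprime_iff_not_dvd.mpr hN)) (hj ▸ dvd_rfl) ?_
    have h4 := Subgroup.orderOf_dvd_natCard (s := N) h2
    exact h4
  · set T := CfsgLib.CharNormal.inertia N θ with hTdef
    let : Fintype T := Fintype.ofFinite _
    have hNT : N ≤ T := CfsgLib.CharNormal.le_inertia N (CfsgLib.Char.isClassFunction_of_isIrr hθirr)
    have hb := CfsgLib.Modular.FongSwan.isPBlock_singleton_pprime hM hN θ'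
    have hS : FongReynolds.Stab N T ({θ'} : Set (IrrCharacter N)) := by
      refine ⟨fun g hg η hη => ?_, fun g η hη h => ?_⟩
      · rw [Set.mem_singleton_iff] at hη ⊢
        subst hη
        exact Subtype.ext ((CfsgLib.CharNormal.conjIrr_coe N g θ').trans
          ((CfsgLib.CharNormal.mem_inertia N).mp hg))
      · rw [Set.mem_singleton_iff] at hη h
        subst hη
        exact (CfsgLib.CharNormal.mem_inertia N).mpr
          ((CfsgLib.CharNormal.conjIrr_coe N g θ').symm.trans (congrArg Subtype.val h))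
    obtain ⟨ψ, hψθ, hψχ⟩ := FongReynolds.exists_constituent_over hS hb hNT (Set.mem_singleton θ') hθ
    have hcov : ∃ ψ' ∈ blockOf M (ψ : T → ℂ), ∃ θ₁ ∈ ({θ'} : Set (IrrCharacter N)),
        FongReynolds.mul' N T hNT (ψ' : T → ℂ) θ₁ ≠ 0 :=
      ⟨ψ, mem_blockOf_self ψ, θ', Set.mem_singleton _, hψθ⟩
    obtain ⟨B₁, hind, -, hirr, hmem⟩ := FongReynolds.exists_induced hNT hS hb (isPBlock_blockOf ψ) hcov
    have hBB : B = B₁ := isPBlock_eq_of_mem hB hind.2.1 hχ ((hmem χ).mpr ⟨ψ, mem_blockOf_self ψ, hψχ⟩)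
    subst hBB
    obtain ⟨hdef, -⟩ := FongReynolds.defect_of_induced hNT hS hb hM (isPBlock_blockOf ψ) hcov hind
    obtain ⟨D', hD'⟩ := exists_isDefectGroup (p := p) (M := M) (isPBlock_blockOf ψ)
    obtain ⟨x, hx⟩ := defectGroups_conj hM hB (hdef D' hD') hD
    set B' := blockOf M (ψ : T → ℂ) with hB'd
    -- the two counts
    have hk' : Nat.card B' = Nat.card B := by
      refine Nat.card_congr (Equiv.ofBijective
        (fun φ : B' => (⟨⟨_, hirr φ.1 φ.2⟩, (hmem _).mpr ⟨φ.1, φ.2, rfl⟩⟩ : B)) ⟨fun φ₁ φ₂ h => ?_, fun η => ?_⟩)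
      · have h' : indFun T ((φ₁ : IrrCharacter T) : T → ℂ) = indFun T ((φ₂ : IrrCharacter T) : T → ℂ) :=
          congrArg (fun η : B => ((η : IrrCharacter G) : G → ℂ)) h
        obtain ⟨θ₁, hθ₁, h₁⟩ := FongReynolds.covers_of_sameBlock hNT hS hb (isPBlock_blockOf ψ) hcov φ₁.2
        obtain ⟨θ₂, hθ₂, h₂⟩ := FongReynolds.covers_of_sameBlock hNT hS hb (isPBlock_blockOf ψ) hcov φ₂.2
        refine Subtype.ext (FongReynolds.eq_of_constituent hNT hS (χ := ⟨_, hirr φ₂.1 φ₂.2⟩) hθ₂ h₂ rfl hθ₁ h₁ ?_)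
        show classInner (fun t : T => indFun T ((φ₂ : IrrCharacter T) : T → ℂ) t) _ ≠ 0
        rw [← h']
        intro h0
        have h3 := CfsgLib.Char.classInner_irr_self (hirr φ₁.1 φ₁.2)
        rw [CfsgLib.Char.frobenius_reciprocity T _
          (CfsgLib.Char.isClassFunction_of_isIrr (hirr φ₁.1 φ₁.2)), ← CfsgLib.Char.classInner_conj_symm,
          h0, map_zero] at h3
        exact zero_ne_one h3
      · obtain ⟨φ, hφ, he⟩ := (hmem η.1).mp η.2
        exact ⟨⟨φ, hφ⟩, Subtype.ext (Subtype.ext he.symm)⟩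
    have hl' : blockRank p B ≤ blockRank p B' := by
      let L : (T → ℂ) →ₗ[ℂ] (G → ℂ) :=
        { toFun := fun f => indFun T f
          map_add' := fun f f' => CfsgLib.Char.indFun_add T f f'
          map_smul' := fun c f => CfsgLib.Char.indFun_smul T c f }
      rw [blockRank, blockRank]
      refine le_trans (Submodule.finrank_mono ?_)
        (Submodule.finrank_map_le L (Submodule.span ℂ ((fun φ : IrrCharacter T => pRegularPart p (φ : T → ℂ)) '' B')))
      rw [Submodule.map_span, ← Set.image_comp]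
      refine Submodule.span_mono ?_
      rintro _ ⟨η, hη, rfl⟩
      obtain ⟨φ, hφ, he⟩ := (hmem η).mp hη
      refine ⟨φ, hφ, funext fun g => ?_⟩
      show indFun T (pRegularPart p (φ : T → ℂ)) g = pRegularPart p (η : G → ℂ) g
      rw [he]
      exact indFun_regular T _ g
    have hlt : Nat.card T < k := by
      rw [← hk, ← T.card_mul_index]
      exact lt_mul_of_one_lt_right Nat.card_pos (Subgroup.one_lt_index_of_ne_top hinv)
    have h := ih _ hlt T rfl (CfsgLib.Transfer.isPSolvable_subgroup hsolv T) _ (isPBlock_blockOf ψ) D' hD'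
      (le_trans hk'.le (le_trans hcnt (Nat.add_le_add_right hl' 1)))
    intro a ha b hb
    rw [← hx] at ha hb
    obtain ⟨a₁, ha₁, rfl⟩ := Subgroup.mem_map.mp ha
    obtain ⟨b₁, hb₁, rfl⟩ := Subgroup.mem_map.mp hb
    obtain ⟨a₂, ha₂, rfl⟩ := Subgroup.mem_map.mp ha₁
    obtain ⟨b₂, hb₂, rfl⟩ := Subgroup.mem_map.mp hb₁
    rw [← map_mul, ← map_mul, ← map_mul, ← map_mul, h a₂ ha₂ b₂ hb₂]

end CfsgLib.Blocks.OneClass
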